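import Mathlib.AlgebraicGeometry.ZariskisMainTheorem

/-!
# The locus of isolated points of a morphism with trivial direct image of the structure sheaf
-/

set_option autoImplicit false
set_option linter.style.haveILetI false
set_option backward.isDefEq.respectTransparency false
set_option backward.isDefEq.respectTransparency.types false

universe u

open CategoryTheory CategoryTheory.Limits AlgebraicGeometry TopologicalSpace Opposite

namespace Groth.L16.QFLocus

variable {X Y : Scheme.{u}} (f : X ⟶ Y)

/-- The normalisation in a scheme with the same functions is trivial. -/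
theorem isIso_fromNormalization [QuasiCompact f] [QuasiSeparated f]
    (hO : ∀ U : Y.Opens, Function.Bijective (f.app U)) : IsIso f.fromNormalization := by
  refine (HasAffineProperty.iff_of_iSup_eq_top (P := MorphismProperty.isomorphisms Scheme)
    (fun U : Y.affineOpens => U) (iSup_affineOpens_eq_top Y)).2 fun U => ?_
  haveI : IsAffine (U.1 : Scheme.{u}) := U.2
  haveI : IsAffine (f.fromNormalization ⁻¹ᵁ U.1 : Scheme.{u}) := U.2.preimage f.fromNormalization
  have happ : IsIso (f.fromNormalization.app U.1) := by
    rw [Scheme.Hom.fromNormalization_app f U.2]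
    haveI : IsIso (CommRingCat.ofHom (letI := (f.app U.1).hom.toAlgebra;
        algebraMap Γ(Y, U.1) (integralClosure Γ(Y, U.1) Γ(X, f ⁻¹ᵁ U.1)))) := by
      letI := (f.app U.1).hom.toAlgebra
      rw [ConcreteCategory.isIso_iff_bijective]
      refine ⟨fun a b hab => (hO U.1).1 (congrArg Subtype.val hab), fun s => ?_⟩
      obtain ⟨a, ha⟩ := (hO U.1).2 s.1
      exact ⟨a, Subtype.ext ha⟩
    infer_instance
  refine ⟨inferInstance, ?_⟩
  rw [morphismRestrict_appTop]
  haveI : IsIso (f.fromNormalization.app (U.1.ι ''ᵁ ⊤)) := by rw [Scheme.Opens.ι_image_top]; exact happ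
  infer_instance

/-- Over an open of the base the morphism is an isomorphism; elsewhere fibres have no isolated points. -/
theorem exists_open [IsSeparated f] [LocallyOfFiniteType f] [QuasiCompact f]
    (hO : ∀ U : Y.Opens, Function.Bijective (f.app U)) :
    ∃ V : Y.Opens, IsIso (f ∣_ V) ∧ ∀ x : X, f.QuasiFiniteAt x → f x ∈ V := by
  haveI := isIso_fromNormalization f hO
  obtain ⟨U, hU, hUq⟩ := f.exists_isIso_morphismRestrict_toNormalization
  refine ⟨(inv f.fromNormalization) ⁻¹ᵁ U, ?_, fun x hx => ?_⟩
  · let V : Y.Opens := (inv f.fromNormalization) ⁻¹ᵁ U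
    have hVU : f.fromNormalization ⁻¹ᵁ V = U := by
      show f.fromNormalization ⁻¹ᵁ ((inv f.fromNormalization) ⁻¹ᵁ U) = U
      rw [← Scheme.Hom.comp_preimage, IsIso.hom_inv_id, Scheme.Hom.id_preimage]
    haveI : IsIso (f.toNormalization ∣_ (f.fromNormalization ⁻¹ᵁ V)) := by rw [hVU]; exact hU
    haveI : IsIso (f.fromNormalization ∣_ V) := inferInstance
    show IsIso (f ∣_ V)
    have key : IsIso ((f.toNormalization ≫ f.fromNormalization) ∣_ V) := by
      rw [morphismRestrict_comp]; infer_instance
    exact (MorphismProperty.arrow_mk_iso_iff (MorphismProperty.isomorphisms Scheme.{u})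
      (eqToIso (by rw [f.toNormalization_fromNormalization]))).1 key
  · have hx' : f.toNormalization x ∈ U := by
      show x ∈ (f.toNormalization ⁻¹ᵁ U).1
      rw [hUq]; exact hx
    show (inv f.fromNormalization) (f x) ∈ U
    rw [← Scheme.Hom.comp_apply]
    have : f ≫ inv f.fromNormalization = f.toNormalization := by
      rw [IsIso.comp_inv_eq, f.toNormalization_fromNormalization]
    rw [this]
    exact hx'

end Groth.L16.QFLocus
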